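import Mathlib
import Groth.Agent.S11834

set_option autoImplicit false
set_option linter.style.haveILetI false

/-!
# The Picard group of a polynomial ring over a normal domain
-/

universe u

open Polynomial TensorProduct CommRing

namespace Groth.Agent.PicPolyLib

variable (A : Type u) [CommRing A] [IsDomain A] [IsIntegrallyClosed A]

theorem dvd_coeff_mul_coeff (d : A) (h u w : A[X]) (he : h * u = C d * w) (i j : ℕ) :
    d ∣ h.coeff i * u.coeff j := by
  let K := FractionRing A
  have hinjK := IsFractionRing.injective A K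
  by_cases hd : d = 0
  · subst hd
    rw [map_zero, zero_mul, mul_eq_zero] at he
    rcases he with rfl | rfl <;> simp
  have hdK : algebraMap A K d ≠ 0 := by simpa using hinjK.ne hd
  let f : K[X] := C (algebraMap A K d)⁻¹ * h.map (algebraMap A K)
  let g : K[X] := u.map (algebraMap A K)
  have hfg : ∀ n, (f * g).coeff n ∈ (algebraMap A K).range := by
    intro n
    refine ⟨w.coeff n, ?_⟩
    rw [mul_assoc, ← Polynomial.map_mul, he, Polynomial.map_mul, Polynomial.map_C, ← mul_assoc, ← map_mul,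
      inv_mul_cancel₀ hdK, map_one, one_mul, Polynomial.coeff_map]
  have hint := Groth.Agent.S11834.result K _ f g hfg i j
  have hint' : IsIntegral A (f.coeff i * g.coeff j) := by
    obtain ⟨p, hp, hp0⟩ := hint
    obtain ⟨q, hq, -, hqm⟩ := Polynomial.lifts_and_degree_eq_and_monic
      (f := (algebraMap A K).rangeRestrict) (p := p) (by
        rw [Polynomial.lifts_iff_coeff_lifts]
        exact fun n => RingHom.rangeRestrict_surjective _ _) hp
    refine ⟨q, hqm, ?_⟩
    rw [← hp0, ← hq, Polynomial.eval₂_map]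
    rfl
  obtain ⟨e, he'⟩ := IsIntegrallyClosed.isIntegral_iff.mp hint'
  refine ⟨e, hinjK ?_⟩
  rw [map_mul, map_mul, he']
  simp only [f, g, Polynomial.coeff_C_mul, Polynomial.coeff_map]
  rw [← mul_assoc, ← mul_assoc, mul_inv_cancel₀ hdK, one_mul]

theorem exists_inverse (Q : Ideal A[X]) [Module.Invertible A[X] Q] (q0 : A[X]) (hq0 : q0 ∈ Q) :
    q0 ∈ (Submodule.colon (Ideal.span {q0}) (Q : Set A[X])) * Q := by
  obtain ⟨t, ht⟩ := (Module.Invertible.bijective (R := A[X]) (M := Q)).2 1
  have hcol : ∀ f : Module.Dual A[X] Q, f ⟨q0, hq0⟩ ∈ Submodule.colon (Ideal.span {q0}) (Q : Set A[X]) := by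
    intro f
    rw [Submodule.mem_colon]
    intro y hy
    rw [smul_eq_mul, Ideal.mem_span_singleton']
    refine ⟨f ⟨y, hy⟩, ?_⟩
    have h1 : (y • (⟨q0, hq0⟩ : Q)) = q0 • (⟨y, hy⟩ : Q) := Subtype.ext (mul_comm _ _)
    have h2 := congrArg f h1
    rw [map_smul, map_smul, smul_eq_mul, smul_eq_mul] at h2
    linear_combination -h2
  have key : ∀ t : Module.Dual A[X] Q ⊗[A[X]] Q, q0 * contractLeft A[X] Q t ∈
      (Submodule.colon (Ideal.span {q0}) (Q : Set A[X])) * Q := by
    intro t
    induction t using TensorProduct.induction_on with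
    | zero => simp
    | add a b ha hb => rw [map_add, mul_add]; exact add_mem ha hb
    | tmul f x =>
      have h1 : q0 • x = (x : A[X]) • (⟨q0, hq0⟩ : Q) := Subtype.ext (mul_comm _ _)
      have h2 := congrArg f h1
      rw [map_smul, map_smul, smul_eq_mul, smul_eq_mul] at h2
      rw [contractLeft_apply, h2, mul_comm (x : A[X])]
      exact Ideal.mul_mem_mul (hcol f) x.2
  simpa [ht] using key t

theorem exists_den (x : (FractionRing A)[X]) :
    ∃ b : A, b ≠ 0 ∧ ∃ y : A[X], y.map (algebraMap A (FractionRing A)) = C (algebraMap A (FractionRing A) b) * x := by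
  obtain ⟨b, hb⟩ := IsLocalization.integerNormalization_map_to_map (nonZeroDivisors A) x
  refine ⟨b, nonZeroDivisors.ne_zero b.2, IsLocalization.integerNormalization (nonZeroDivisors A) x, ?_⟩
  rw [hb, Algebra.smul_def, Polynomial.algebraMap_apply]

/-- An invertible ideal of `A[X]` is isomorphic to an extended ideal. -/
theorem exists_linearEquiv_extended (Q : Ideal A[X]) [Module.Invertible A[X] Q] (hQ : Q ≠ ⊥) :
    ∃ (I : Ideal A), Nonempty (Q ≃ₗ[A[X]] A[X] ⊗[A] I) := by
  classical
  let φ : A[X] →+* (FractionRing A)[X] := Polynomial.mapRingHom (algebraMap A (FractionRing A))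
  have hφ : Function.Injective φ := Polynomial.map_injective _ (IsFractionRing.injective A (FractionRing A))
  obtain ⟨g, hg⟩ := (IsPrincipalIdealRing.principal (Q.map φ)).principal
  obtain ⟨b0, hb0, g', hg'⟩ := exists_den A g
  -- every element of `Q` is a multiple of `g'` up to a scalar
  have hmult : ∀ q ∈ Q, ∃ b : A, b ≠ 0 ∧ g' ∣ C b * q := by
    intro q hq
    have h1 : φ q ∈ Submodule.span (FractionRing A)[X] {g} := hg ▸ Ideal.mem_map_of_mem φ hq
    obtain ⟨r, hr⟩ := Submodule.mem_span_singleton.mp h1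
    obtain ⟨b, hb, r', hr'⟩ := exists_den A r
    refine ⟨b0 * b, mul_ne_zero hb0 hb, r', hφ ?_⟩
    rw [map_mul, map_mul]
    simp only [φ, Polynomial.coe_mapRingHom, hg', hr', Polynomial.map_C, map_mul, Polynomial.map_mul]
    simp only [smul_eq_mul, φ, Polynomial.coe_mapRingHom] at hr
    rw [← hr]; ring
  obtain ⟨b, hb, hbQ⟩ : ∃ b : A, b ≠ 0 ∧ ∀ q ∈ Q, g' ∣ C b * q := by
    obtain ⟨s, hs⟩ := Module.Finite.iff_fg.mp (inferInstance : Module.Finite A[X] Q)
    choose! bb hbb0 hbb using hmult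
    refine ⟨∏ q ∈ s, bb q, Finset.prod_ne_zero_iff.mpr fun q hq => hbb0 q (hs ▸ Submodule.subset_span hq), ?_⟩
    intro q hq
    rw [← hs] at hq
    induction hq using Submodule.span_induction with
    | mem x hx =>
      rw [← Finset.mul_prod_erase s bb hx, map_mul, mul_comm (C (bb x)), mul_assoc]
      exact (hbb x (hs ▸ Submodule.subset_span hx)).mul_left _
    | zero => simp
    | add x y _ _ hx hy => rw [mul_add]; exact dvd_add hx hy
    | smul c x _ hx => rw [smul_eq_mul, mul_left_comm]; exact hx.mul_left c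
  have hg'0 : g' ≠ 0 := by
    rintro rfl
    obtain ⟨q, hq, hq0⟩ := Submodule.exists_mem_ne_zero_of_ne_bot hQ
    obtain ⟨r, hr⟩ := hbQ q hq
    rw [zero_mul, mul_eq_zero, map_eq_zero_iff _ Polynomial.C_injective] at hr
    exact hr.elim hb hq0
  have hCb : (C b : A[X]) ≠ 0 := (map_ne_zero_iff _ Polynomial.C_injective).mpr hb
  let Q2 : Ideal A[X] := Submodule.comap (LinearMap.mulLeft A[X] g')
    (Submodule.map (LinearMap.mulLeft A[X] (C b)) Q)
  have hQ2 : ∀ y, y ∈ Q2 ↔ ∃ q ∈ Q, C b * q = g' * y := fun y => Iff.rfl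
  -- `Q2 ≅ Q`
  choose r hr using fun q : Q => hbQ q q.2
  let f : Q →ₗ[A[X]] Q2 :=
    { toFun := fun q => ⟨r q, (hQ2 _).mpr ⟨q, q.2, hr q⟩⟩
      map_add' := fun x y => Subtype.ext (mul_left_cancel₀ hg'0 (by
        show g' * r (x + y) = g' * (r x + r y)
        rw [mul_add, ← hr, ← hr, ← hr, Submodule.coe_add, mul_add]))
      map_smul' := fun c x => Subtype.ext (mul_left_cancel₀ hg'0 (by
        show g' * r (c • x) = g' * (c * r x)
        rw [mul_left_comm g' c, ← hr, ← hr, Submodule.coe_smul, smul_eq_mul, mul_left_comm])) }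
  have hf : Function.Bijective f := by
    constructor
    · intro x y h
      have h' : r x = r y := congrArg Subtype.val h
      exact Subtype.ext (mul_left_cancel₀ hCb (by rw [hr, hr, h']))
    · rintro ⟨y, hy⟩
      obtain ⟨q, hq, hqy⟩ := (hQ2 y).mp hy
      exact ⟨⟨q, hq⟩, Subtype.ext (mul_left_cancel₀ hg'0 ((hr ⟨q, hq⟩).symm.trans hqy))⟩
  let e := LinearEquiv.ofBijective f hf
  haveI : Module.Invertible A[X] Q2 := Module.Invertible.congr e
  -- a constant in `Q2`
  obtain ⟨d, hd, hdQ⟩ : ∃ d : A, d ≠ 0 ∧ C d ∈ Q2 := by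
    have h1 : g ∈ Q.map φ := hg ▸ Submodule.mem_span_singleton_self g
    have key : ∀ x ∈ Q.map φ, ∃ c : A, c ≠ 0 ∧ ∃ q ∈ Q, φ q = C (algebraMap A (FractionRing A) c) * x := by
      intro x hx
      induction hx using Submodule.span_induction with
      | mem x hx => obtain ⟨q, hq, rfl⟩ := hx; exact ⟨1, one_ne_zero, q, hq, by simp⟩
      | zero => exact ⟨1, one_ne_zero, 0, zero_mem _, by simp⟩
      | add x y _ _ hx hy =>
        obtain ⟨c, hc, q, hq, hx⟩ := hx
        obtain ⟨c', hc', q', hq', hy⟩ := hy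
        refine ⟨c * c', mul_ne_zero hc hc', C c' * q + C c * q',
          add_mem (Ideal.mul_mem_left _ _ hq) (Ideal.mul_mem_left _ _ hq'), ?_⟩
        rw [map_add, map_mul φ, map_mul φ, hx, hy]
        simp only [φ, Polynomial.coe_mapRingHom, Polynomial.map_C, map_mul]
        ring
      | smul s x _ hx =>
        obtain ⟨c, hc, q, hq, hx⟩ := hx
        obtain ⟨c', hc', s', hs'⟩ := exists_den A s
        refine ⟨c * c', mul_ne_zero hc hc', s' * q, Ideal.mul_mem_left _ _ hq, ?_⟩
        rw [map_mul, hx, smul_eq_mul]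
        simp only [φ, Polynomial.coe_mapRingHom, hs', map_mul]
        ring
    obtain ⟨c, hc, q, hq, hcq⟩ := key g h1
    refine ⟨b * c, mul_ne_zero hb hc, (hQ2 _).mpr ⟨C b0 * q, Ideal.mul_mem_left _ _ hq, hφ ?_⟩⟩
    rw [map_mul, map_mul, map_mul, hcq]
    simp only [φ, Polynomial.coe_mapRingHom, hg', Polynomial.map_C, map_mul, Polynomial.map_mul]
    ring
  -- `Q2` is extended
  have hinv := exists_inverse A Q2 (C d) hdQ
  set Q3 := Submodule.colon (Ideal.span {(C d : A[X])}) (Q2 : Set A[X]) with hQ3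
  let I : Ideal A := Q2.comap C
  have hcoef : ∀ h ∈ Q2, ∀ i, h.coeff i ∈ I := by
    intro h hh i
    rw [Ideal.mem_comap]
    have h3 : ∀ u ∈ Q3, C (h.coeff i) * u ∈ Ideal.span {(C d : A[X])} := by
      intro u hu
      have h4 := Submodule.mem_colon.mp hu h hh
      rw [smul_eq_mul, Ideal.mem_span_singleton'] at h4
      obtain ⟨w, hw⟩ := h4
      rw [Ideal.mem_span_singleton, Polynomial.C_dvd_iff_dvd_coeff]
      intro j
      rw [Polynomial.coeff_C_mul]
      exact dvd_coeff_mul_coeff A d h u w (by rw [mul_comm h u, ← hw, mul_comm]) i j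
    have h5 : C (h.coeff i) * C d ∈ Ideal.span {(C d : A[X])} * Q2 := by
      refine Submodule.mul_induction_on (C := fun z => C (h.coeff i) * z ∈ Ideal.span {(C d : A[X])} * Q2)
        hinv (fun u hu y hy => ?_) (fun x y hx hy => ?_)
      · rw [← mul_assoc]; exact Ideal.mul_mem_mul (h3 u hu) hy
      · rw [mul_add]; exact add_mem hx hy
    obtain ⟨z, hz, hze⟩ := Ideal.mem_span_singleton_mul.mp h5
    have : C (h.coeff i) = z := mul_left_cancel₀ ((map_ne_zero_iff _ Polynomial.C_injective).mpr hd)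
      (by rw [hze, mul_comm])
    rw [this]; exact hz
  have hQ2I : Q2 = I.map C := by
    refine le_antisymm (fun h hh => ?_) Ideal.map_comap_le
    rw [Ideal.mem_map_C_iff]
    exact hcoef h hh
  -- as a tensor product
  let μ : A[X] ⊗[A] I →ₗ[A[X]] A[X] :=
    (AlgebraTensorModule.rid A A[X] A[X]).toLinearMap.comp (AlgebraTensorModule.lTensor A[X] A[X] I.subtype)
  have hμ : Function.Injective μ :=
    (AlgebraTensorModule.rid A A[X] A[X]).injective.comp
      (Module.Flat.lTensor_preserves_injective_linearMap (M := A[X]) I.subtype I.subtype_injective)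
  have hμv : ∀ (p : A[X]) (a : I), μ (p ⊗ₜ a) = C (a : A) * p := fun p a => by
    simp [μ, Algebra.smul_def]
  have hrange : LinearMap.range μ = Q2 := by
    rw [hQ2I]
    refine le_antisymm ?_ (Ideal.map_le_iff_le_comap.mpr fun a ha => ⟨1 ⊗ₜ ⟨a, ha⟩, ?_⟩)
    · rintro _ ⟨t, rfl⟩
      induction t using TensorProduct.induction_on with
      | zero => rw [map_zero]; exact zero_mem _
      | add x y hx hy => rw [map_add]; exact add_mem hx hy
      | tmul p a => rw [hμv]; exact Ideal.mul_mem_right _ _ (Ideal.mem_map_of_mem _ a.2)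
    · rw [hμv, mul_one]
  exact ⟨I, ⟨e.trans ((LinearEquiv.ofEq _ _ hrange.symm).trans (LinearEquiv.ofInjective μ hμ).symm)⟩⟩

/-- Picard classes on `A[X]` are determined by their restriction to `X = 0`. -/
theorem pic_eq (P : Pic A[X]) :
    P = Pic.mapRingHom (C : A →+* A[X]) (Pic.mapRingHom (Polynomial.evalRingHom (0 : A)) P) := by
  obtain ⟨Q, ⟨eQ⟩⟩ := Module.Invertible.exists_linearEquiv_ideal A[X] P
  haveI : Module.Invertible A[X] Q := Module.Invertible.congr eQ
  have hQ : Q ≠ ⊥ := by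
    intro h
    subst h
    have h1 := (Module.Invertible.bijective (R := A[X]) (M := (⊥ : Ideal A[X]))).2 1
    obtain ⟨t, ht⟩ := h1
    have : t = 0 := Subsingleton.elim _ _
    rw [this, map_zero] at ht
    exact zero_ne_one ht
  obtain ⟨I, ⟨eI⟩⟩ := exists_linearEquiv_extended A Q hQ
  letI : Algebra A[X] A := (Polynomial.evalRingHom (0 : A)).toAlgebra
  haveI : IsScalarTower A A[X] A := IsScalarTower.of_algebraMap_eq fun a => (Polynomial.eval_C).symm
  rw [show Pic.mapRingHom (Polynomial.evalRingHom (0 : A)) = Pic.mapAlgebra A[X] A from rfl,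
    ← Polynomial.algebraMap_eq, Pic.mapRingHom_algebraMap]
  symm
  refine Pic.mk_eq_iff.mpr ⟨?_⟩
  let e1 : (Pic.mapAlgebra A[X] A P : Pic A) ≃ₗ[A] I :=
    (CommRing.Pic.mk.linearEquiv A (A ⊗[A[X]] P)).trans
      ((AlgebraTensorModule.congr (LinearEquiv.refl A A) (eQ.trans eI)).trans
        ((AlgebraTensorModule.cancelBaseChange A A[X] A A I).trans (TensorProduct.lid A I)))
  exact (AlgebraTensorModule.congr (LinearEquiv.refl A[X] A[X]) e1).trans (eQ.trans eI).symm

end Groth.Agent.PicPolyLib
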